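import Groth.Agent.FlatLib.QFCover
import Mathlib.AlgebraicGeometry.ZariskisMainTheorem

/-!
# Nisnevich-local finite flat refinements of fppf covers
-/

set_option autoImplicit false

universe u

open CategoryTheory Limits AlgebraicGeometry TensorProduct

namespace FppfNisLib

/-- The residue field map of `Spec S ⟶ Spec R` at a prime with trivial residue extension. -/
theorem isIso_residueFieldMap_SpecMap {A R : Type u} [CommRing A] [CommRing R] [Algebra A R]
    (x : PrimeSpectrum R) (p : Ideal A) [p.IsPrime] [x.asIdeal.LiesOver p]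
    (h : Function.Bijective (Ideal.ResidueField.mapₐ p x.asIdeal (Algebra.ofId A R) (x.asIdeal.over_def p))) :
    IsIso ((Spec.map (CommRingCat.ofHom (algebraMap A R))).residueFieldMap x) := by
  let res := ((Spec.map (CommRingCat.ofHom (algebraMap A R))).residueFieldMap x).hom
  let ev : R → (Spec (CommRingCat.of R)).residueField x :=
    fun t => (Scheme.Spec.residueFieldIso (CommRingCat.of R) x).inv (algebraMap _ x.asIdeal.ResidueField t)
  have hev : ∀ c, ev (algebraMap A R c) ∈ res.fieldRange := fun c => by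
    refine ⟨(Spec (CommRingCat.of A)).Γevaluation _ ((Scheme.ΓSpecIso _).inv c), ?_⟩
    show (Spec.map (CommRingCat.ofHom (algebraMap A R))).residueFieldMap x _ = _
    rw [Scheme.Γevaluation_naturality_apply]
    have e1 := CategoryTheory.ConcreteCategory.congr_hom
      (Scheme.ΓSpecIso_inv_naturality (CommRingCat.ofHom (algebraMap A R))) c
    refine (congrArg _ e1.symm).trans ?_
    have e2 := CategoryTheory.ConcreteCategory.congr_hom
      (Scheme.Spec.algebraMap_residueFieldIso_inv (CommRingCat.of R) x) (algebraMap A R c)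
    exact e2.symm
  rw [ConcreteCategory.isIso_iff_bijective]
  refine ⟨res.injective, fun w => ?_⟩
  obtain ⟨k, hk⟩ := h.2 ((Scheme.Spec.residueFieldIso (CommRingCat.of R) x).hom w)
  obtain ⟨a, b, hb, rfl⟩ := IsFractionRing.div_surjective (A ⧸ p) k
  obtain ⟨a, rfl⟩ := Ideal.Quotient.mk_surjective a
  obtain ⟨b, rfl⟩ := Ideal.Quotient.mk_surjective b
  have hm : ∀ c : A, Ideal.ResidueField.mapₐ p x.asIdeal (Algebra.ofId A R) (x.asIdeal.over_def p)
      (algebraMap (A ⧸ p) p.ResidueField (Ideal.Quotient.mk p c)) =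
        algebraMap R x.asIdeal.ResidueField (algebraMap A R c) := fun c => by
    rw [← Ideal.Quotient.algebraMap_eq, ← IsScalarTower.algebraMap_apply, AlgHom.commutes]
    exact IsScalarTower.algebraMap_apply A R x.asIdeal.ResidueField c
  rw [map_div₀, hm, hm] at hk
  have hw : w = ev (algebraMap A R a) / ev (algebraMap A R b) := by
    have h0 := congrArg (Scheme.Spec.residueFieldIso (CommRingCat.of R) x).inv.hom hk
    rw [map_div₀] at h0
    exact ((CategoryTheory.ConcreteCategory.congr_hom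
      (Scheme.Spec.residueFieldIso (CommRingCat.of R) x).hom_inv_id w).symm.trans h0.symm)
  exact hw ▸ res.fieldRange.div_mem (hev a) (hev b)

/-- Around a point, a flat finitely presented morphism hitting the point has, after an etale
neighbourhood with trivial residue extension, a finite flat surjective multisection. -/
theorem exists_etale_finite {W X : Scheme.{u}} (g : W ⟶ X) [Flat g] [LocallyOfFinitePresentation g]
    (w₀ : W) :
    ∃ (U V : Scheme.{u}) (e : U ⟶ X) (π : V ⟶ U) (y : U), Etale e ∧ e y = g w₀ ∧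
      IsIso (e.residueFieldMap y) ∧ IsFinite π ∧ Flat π ∧ Surjective π ∧
      ∃ r : V ⟶ W, r ≫ g = π ≫ e := by
  obtain ⟨U₀, hU₀, hsU, -⟩ := exists_isAffineOpen_mem_and_subset (x := g w₀) (U := (⊤ : X.Opens)) trivial
  obtain ⟨W₀, hW₀, hxW, hWU⟩ := exists_isAffineOpen_mem_and_subset (x := w₀) (U := g ⁻¹ᵁ U₀) hsU
  replace hWU : W₀ ≤ g ⁻¹ᵁ U₀ := hWU
  letI := (g.appLE U₀ W₀ hWU).hom.toAlgebra
  haveI : Algebra.FinitePresentation Γ(X, U₀) Γ(W, W₀) :=
    LocallyOfFinitePresentation.finitePresentation_appLE g hU₀ hW₀ hWU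
  haveI : Module.Flat Γ(X, U₀) Γ(W, W₀) := Flat.flat_appLE g hU₀ hW₀ hWU
  let p := hU₀.primeIdealOf ⟨g w₀, hsU⟩
  have hp : p ∈ Set.range (PrimeSpectrum.comap (algebraMap Γ(X, U₀) Γ(W, W₀))) :=
    ⟨hW₀.primeIdealOf ⟨w₀, hxW⟩, IsAffineOpen.comap_primeIdealOf_appLE (f := g) U₀ hU₀ W₀ hW₀ hWU hxW⟩
  obtain ⟨D, _, _, ⟨hqf, hfp, hfl, ⟨ψ⟩⟩, O, -, hpO, hO⟩ := FlatLib.exists_qf_nhd (B := Γ(W, W₀)) p hp
  haveI := hqf
  haveI := hfp
  haveI := hfl
  obtain ⟨z, hz⟩ := hO hpO
  haveI : z.asIdeal.LiesOver p.asIdeal := ⟨(congrArg PrimeSpectrum.asIdeal hz).symm⟩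
  haveI : Algebra.QuasiFiniteAt Γ(X, U₀) z.asIdeal := inferInstance
  obtain ⟨R, _, _, _, P, _, _, e, he, P', _, _, -, heP', hbij, hfin, -⟩ :=
    Algebra.exists_etale_isIdempotentElem_forall_liesOver_eq p.asIdeal z.asIdeal
  let E := Localization.Away e
  haveI : Module.Flat R E := Module.Flat.trans R (R ⊗[Γ(X, U₀)] D) E
  haveI : Algebra.FinitePresentation (R ⊗[Γ(X, U₀)] D) E := IsLocalization.Away.finitePresentation e
  haveI : Algebra.FinitePresentation R E := Algebra.FinitePresentation.trans R (R ⊗[Γ(X, U₀)] D) E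
  let π₀ : Spec (CommRingCat.of E) ⟶ Spec (CommRingCat.of R) :=
    Spec.map (CommRingCat.ofHom (algebraMap R E))
  haveI : IsFinite π₀ := by
    rw [IsFinite.SpecMap_iff]
    exact RingHom.finite_algebraMap.mpr hfin
  haveI : Flat π₀ := HasRingHomProperty.Spec_iff.mpr (RingHom.flat_algebraMap_iff.mpr inferInstance)
  haveI : LocallyOfFinitePresentation π₀ :=
    HasRingHomProperty.Spec_iff.mpr (RingHom.finitePresentation_algebraMap.mpr inferInstance)
  let O' : (Spec (CommRingCat.of R)).Opens := ⟨Set.range π₀, π₀.isOpenMap.isOpen_range⟩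
  have hPO : (⟨P, inferInstance⟩ : PrimeSpectrum R) ∈ O' := by
    obtain ⟨v, hv⟩ : (⟨P', inferInstance⟩ : PrimeSpectrum _) ∈
        Set.range (PrimeSpectrum.comap (algebraMap (R ⊗[Γ(X, U₀)] D) E)) := by
      rw [PrimeSpectrum.localization_away_comap_range E e]
      exact heP'
    refine ⟨v, ?_⟩
    refine PrimeSpectrum.ext ?_
    change Ideal.comap (algebraMap R E) v.asIdeal = P
    rw [IsScalarTower.algebraMap_eq R (R ⊗[Γ(X, U₀)] D) E, ← Ideal.comap_comap]
    rw [show Ideal.comap (algebraMap (R ⊗[Γ(X, U₀)] D) E) v.asIdeal = P' from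
      congrArg PrimeSpectrum.asIdeal hv]
    exact (P'.over_def P).symm
  haveI : Etale (Spec.map (CommRingCat.ofHom (algebraMap Γ(X, U₀) R))) :=
    HasRingHomProperty.Spec_iff.mpr (RingHom.etale_algebraMap.mpr inferInstance)
  let eS : Spec (CommRingCat.of R) ⟶ X :=
    Spec.map (CommRingCat.ofHom (algebraMap Γ(X, U₀) R)) ≫ hU₀.fromSpec
  let r : Spec (CommRingCat.of E) ⟶ W := Spec.map (CommRingCat.ofHom
    (((algebraMap (R ⊗[Γ(X, U₀)] D) E).comp
      (Algebra.TensorProduct.includeRight : D →ₐ[Γ(X, U₀)] R ⊗[Γ(X, U₀)] D).toRingHom).comp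
        ψ.toRingHom)) ≫ hW₀.fromSpec
  have hr : r ≫ g = π₀ ≫ eS := by
    simp only [r, eS, π₀, Category.assoc]
    rw [← IsAffineOpen.SpecMap_appLE_fromSpec g hU₀ hW₀ hWU, ← Category.assoc, ← Category.assoc,
      ← Spec.map_comp, ← Spec.map_comp]
    congr 2
    refine CommRingCat.hom_ext (RingHom.ext fun a => ?_)
    change algebraMap _ E ((Algebra.TensorProduct.includeRight : D →ₐ[Γ(X, U₀)] R ⊗[Γ(X, U₀)] D)
      (ψ (algebraMap Γ(X, U₀) Γ(W, W₀) a))) = algebraMap R E (algebraMap Γ(X, U₀) R a)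
    rw [ψ.commutes, AlgHom.commutes, IsScalarTower.algebraMap_apply R (R ⊗[Γ(X, U₀)] D) E,
      ← IsScalarTower.algebraMap_apply Γ(X, U₀) R (R ⊗[Γ(X, U₀)] D)]
  haveI : Surjective (π₀ ∣_ O') := ⟨fun ⟨a, b, hb⟩ => ⟨⟨b, ⟨b, rfl⟩⟩, Subtype.ext (by
    rw [morphismRestrict_base_coe]; exact hb)⟩⟩
  haveI : IsIso ((Spec.map (CommRingCat.ofHom (algebraMap Γ(X, U₀) R))).residueFieldMap
      ⟨P, inferInstance⟩) :=
    isIso_residueFieldMap_SpecMap (⟨P, inferInstance⟩ : PrimeSpectrum R) p.asIdeal hbij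
  refine ⟨O'.toScheme, (π₀ ⁻¹ᵁ O').toScheme, O'.ι ≫ eS, π₀ ∣_ O', ⟨⟨P, inferInstance⟩, hPO⟩,
    inferInstance, ?_, ?_, inferInstance, inferInstance, inferInstance, (π₀ ⁻¹ᵁ O').ι ≫ r, ?_⟩
  · change hU₀.fromSpec (Spec.map (CommRingCat.ofHom (algebraMap Γ(X, U₀) R)) ⟨P, _⟩) = g w₀
    refine Eq.trans ?_ (hU₀.fromSpec_primeIdealOf ⟨g w₀, hsU⟩)
    congr 1
    exact PrimeSpectrum.ext (P.over_def p.asIdeal).symm
  · rw [Scheme.residueFieldMap_comp, show eS = Spec.map _ ≫ hU₀.fromSpec from rfl,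
      Scheme.residueFieldMap_comp]
    haveI : IsOpenImmersion hU₀.fromSpec := inferInstance
    refine IsIso.comp_isIso' (IsIso.comp_isIso' ?_ ?_) inferInstance
    · exact (IsLocalRing.ResidueField.mapEquiv
        (asIso (hU₀.fromSpec.stalkMap _)).commRingCatIsoToRingEquiv).toCommRingCatIso.isIso_hom
    assumption
  · rw [Category.assoc, hr, morphismRestrict_ι_assoc]

end FppfNisLib
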